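import Mathlib

set_option autoImplicit false
universe u

namespace Groth.Agent.H17.FC

/-- (T1) general topology -/
theorem exists_closed_cover_of_not_isPreconnected {X : Type u} [TopologicalSpace X] (Y Z : Set X)
    (hY : IsClosed Y) (hnp : ¬ IsPreconnected (Y \ Z)) :
    ∃ F₁ F₂ : Set X, IsClosed F₁ ∧ IsClosed F₂ ∧ F₁ ⊆ Y ∧ F₂ ⊆ Y ∧ Y ⊆ F₁ ∪ F₂ ∪ Z ∧
      F₁ ∩ F₂ ⊆ Z ∧ ¬ F₁ ⊆ Z ∧ ¬ F₂ ⊆ Z := by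
  rw [isPreconnected_closed_iff] at hnp
  push Not at hnp
  obtain ⟨t, t', ht, ht', hsub, ⟨x, hx, hxt⟩, ⟨y, hy, hyt⟩, hemp⟩ := hnp
  refine ⟨t ∩ Y, t' ∩ Y, ht.inter hY, ht'.inter hY, Set.inter_subset_right,
    Set.inter_subset_right, ?_, ?_, ?_, ?_⟩
  · intro w hw
    by_cases hwZ : w ∈ Z
    · exact Or.inr hwZ
    · rcases hsub ⟨hw, hwZ⟩ with h | h
      · exact Or.inl (Or.inl ⟨h, hw⟩)
      · exact Or.inl (Or.inr ⟨h, hw⟩)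
  · rintro w ⟨⟨hwt, hwY⟩, ⟨hwt', -⟩⟩
    by_contra hwZ
    have : w ∈ (Y \ Z) ∩ (t ∩ t') := ⟨⟨hwY, hwZ⟩, hwt, hwt'⟩
    rw [hemp] at this
    exact this
  · intro h
    exact hx.2 (h ⟨hxt, hx.1⟩)
  · intro h
    exact hy.2 (h ⟨hyt, hy.1⟩)

end Groth.Agent.H17.FC
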