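import Mathlib
import Groth.Agent.H17.BS.Asm1

set_option autoImplicit false
universe u

namespace Groth.Agent.H17.FC

/-- (T3) strict drop of dimension -/
theorem dim_quotient_lt_of_forall_prime_lt (A : Type u) [CommRing A] [IsNoetherianRing A]
    [IsLocalRing A] (a K : Ideal A) (hK : K ≠ ⊤)
    (h : ∀ x : Ideal A, x.IsPrime → K ≤ x → ∃ q : Ideal A, q.IsPrime ∧ a ≤ q ∧ q < x) :
    ringKrullDim (A ⧸ K) < ringKrullDim (A ⧸ a) := by
  classical
  obtain ⟨D, hD⟩ := Groth.Agent.H17.BS.exists_nat_dim K hK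
  have hD' := hD
  rw [ringKrullDim_quotient] at hD'
  obtain ⟨s, hs⟩ := Order.le_krullDim_iff.1 (le_of_eq hD'.symm)
  have hsub : ∀ x : PrimeSpectrum A, x ∈ PrimeSpectrum.zeroLocus (K : Set A) →
      x ∈ PrimeSpectrum.zeroLocus (a : Set A) := by
    intro x hx
    have hKx : K ≤ x.asIdeal :=
      SetLike.coe_subset_coe.mp ((PrimeSpectrum.mem_zeroLocus _ _).mp hx)
    obtain ⟨q, hq, haq, hqx⟩ := h x.asIdeal x.2 hKx
    exact (PrimeSpectrum.mem_zeroLocus _ _).mpr (SetLike.coe_subset_coe.mpr (haq.trans hqx.le))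
  let f : ↥(PrimeSpectrum.zeroLocus (K : Set A)) → ↥(PrimeSpectrum.zeroLocus (a : Set A)) :=
    fun x => ⟨x.1, hsub x.1 x.2⟩
  have hf : StrictMono f := fun x y hxy => hxy
  have hKx : K ≤ s.head.1.asIdeal :=
    SetLike.coe_subset_coe.mp ((PrimeSpectrum.mem_zeroLocus _ _).mp s.head.2)
  obtain ⟨q, hq, haq, hqx⟩ := h s.head.1.asIdeal s.head.1.2 hKx
  let q' : ↥(PrimeSpectrum.zeroLocus (a : Set A)) :=
    ⟨⟨q, hq⟩, (PrimeSpectrum.mem_zeroLocus _ _).mpr (SetLike.coe_subset_coe.mpr haq)⟩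
  have hlt : q' < (s.map f hf).head := by
    rw [LTSeries.head_map]
    exact hqx
  have hlen := Order.LTSeries.length_le_krullDim ((s.map f hf).cons q' hlt)
  rw [hD, ringKrullDim_quotient]
  refine lt_of_lt_of_le ?_ hlen
  simp only [RelSeries.cons_length, LTSeries.map_length, hs]
  exact_mod_cast Nat.lt_succ_self D

end Groth.Agent.H17.FC
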