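import Mathlib
import Groth.Prelude.Def_W4bk5brsh7111920
import Groth.Agent.H58.ConnDim2

set_option autoImplicit false
universe u

namespace Groth.Agent.H17.FC

theorem nat_add_one_le_of_lt (N : ℕ) (y : WithBot ℕ∞) (h : ((N : ℕ) : WithBot ℕ∞) < y) :
    ((N + 1 : ℕ) : WithBot ℕ∞) ≤ y := by
  induction y using WithBot.recBotCoe with
  | bot => simp at h
  | coe z =>
    induction z using ENat.recTopCoe with
    | top => exact le_top
    | coe m =>
      have h' : N < m := by exact_mod_cast h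
      exact_mod_cast h'

/-- (T6b) -/
theorem add_one_le_connDim (T : Type u) [TopologicalSpace T] (N : ℕ)
    (h : ∀ Z' : Set T, IsClosed Z' → ¬ IsConnected Z'ᶜ →
      ((N : ℕ) : WithBot ℕ∞) < topologicalKrullDim ↥Z') :
    ((N + 1 : ℕ) : WithBot ℕ∞) ≤ LocCoh.connDim T := by
  unfold LocCoh.connDim
  refine le_iInf₂ fun Z' hZ' => ?_
  exact nat_add_one_le_of_lt N _ (h Z' hZ'.1 hZ'.2)

/-- (T6a) -/
theorem add_one_le_subdim (A : Type u) [CommRing A] [IsNoetherianRing A] [IsLocalRing A] (N : ℕ)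
    (h : ∀ p ∈ minimalPrimes A, ((N : ℕ) : WithBot ℕ∞) < ringKrullDim (A ⧸ p)) :
    ((N + 1 : ℕ) : WithBot ℕ∞) ≤ LocCoh.subdim (PrimeSpectrum A) := by
  unfold LocCoh.subdim
  refine le_iInf₂ fun Z' hZ' => ?_
  rw [← PrimeSpectrum.zeroLocus_minimalPrimes] at hZ'
  obtain ⟨p, hp, rfl⟩ := hZ'
  apply nat_add_one_le_of_lt
  have := h p hp
  rwa [← Groth.Agent.H58.ConnDim.dim_zeroLocus] at this

end Groth.Agent.H17.FC
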