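import Mathlib
import Groth.Statements.S0815
import Groth.Agent.S11669
import Groth.Agent.H9.BS_B3
import Groth.Agent.H58.ConnDim2
import Groth.Agent.H54.AffineDim2
import Groth.Agent.H17.BS.Asm1
import Groth.Agent.H17.FC.T1
import Groth.Agent.H17.FC.T3
import Groth.Agent.H17.FC.T6
import Groth.Agent.H58.FC_T2

set_option autoImplicit false
universe u

namespace Groth.Agent.H17.FC

open Groth.Agent.H58.FC

/-- (T4) -/
theorem dim_quotient_le_topologicalKrullDim (A : Type u) [CommRing A] (J : Ideal A)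
    (Z : Set (PrimeSpectrum A)) (h : PrimeSpectrum.zeroLocus (J : Set A) ⊆ Z) :
    ringKrullDim (A ⧸ J) ≤ topologicalKrullDim ↥Z := by
  rw [← Groth.Agent.H58.ConnDim.dim_zeroLocus]
  exact (Topology.IsEmbedding.inclusion h).isInducing.topologicalKrullDim_le

theorem main0815 (A : Type u) [CommRing A] [IsNoetherianRing A] [IsLocalRing A]
    [IsAdicComplete (IsLocalRing.maximalIdeal A) A] (I : Ideal A) (hI : I ≠ ⊤) (e : ℕ)
    (he : LocCoh.CdLE A I e)
    (Z : Set (PrimeSpectrum A)) (hZ : IsClosed Z) (hZI : Z ⊆ PrimeSpectrum.zeroLocus (I : Set A))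
    (hdim : ∀ p ∈ minimalPrimes A,
      topologicalKrullDim Z + ((e + 1 : ℕ) : WithBot ℕ∞) < ringKrullDim (A ⧸ p))
    (hc : ∀ Z' : Set (PrimeSpectrum A), IsClosed Z' → ¬ _root_.IsConnected Z'ᶜ →
      topologicalKrullDim Z + ((e : ℕ) : WithBot ℕ∞) < topologicalKrullDim Z') :
    _root_.IsConnected (PrimeSpectrum.zeroLocus (I : Set A) \ Z) := by
  classical
  obtain ⟨D, hD⟩ := Groth.Agent.H9.BS.exists_nat_ringKrullDim_eq A
  have hZle : topologicalKrullDim ↥Z ≤ (D : WithBot ℕ∞) := by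
    rw [← hD, ← PrimeSpectrum.topologicalKrullDim_eq_ringKrullDim]
    exact topologicalKrullDim_subspace_le _ Z
  have hnat : ∀ J : Ideal A, J ≠ ⊤ → PrimeSpectrum.zeroLocus (J : Set A) ⊆ Z →
      ∃ n : ℕ, topologicalKrullDim ↥Z = (n : WithBot ℕ∞) := by
    intro J hJ hJZ
    haveI : Nontrivial (A ⧸ J) := Ideal.Quotient.nontrivial_iff.2 hJ
    have h0 : (0 : WithBot ℕ∞) ≤ ringKrullDim (A ⧸ J) := ringKrullDim_nonneg_of_nontrivial
    have h1 := dim_quotient_le_topologicalKrullDim A J Z hJZ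
    have hne : topologicalKrullDim ↥Z ≠ ⊥ := by
      intro hbot
      rw [hbot] at h1
      have h2 := le_trans h0 h1
      simp at h2
    exact Groth.Agent.H54.exists_nat_eq_of_le hne hZle
  refine ⟨?_, ?_⟩
  · -- nonempty
    by_contra hempty
    rw [Set.not_nonempty_iff_eq_empty, Set.sdiff_eq_empty] at hempty
    obtain ⟨n, hn⟩ := hnat I hI hempty
    have h1 := Groth.Agent.H9.BS.ringKrullDim_le_cd_add_dim_quotient A I hI e he
    have h2 := dim_quotient_le_topologicalKrullDim A I Z hempty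
    obtain ⟨p, hp, -⟩ := Ideal.exists_minimalPrimes_le
      (bot_le : (⊥ : Ideal A) ≤ IsLocalRing.maximalIdeal A)
    have h3 := hdim p hp
    have h4 : ringKrullDim (A ⧸ p) ≤ ringKrullDim A := ringKrullDim_quotient_le p
    rw [hn] at h3 h2
    rw [hD] at h1 h4
    have h5 : ((n : ℕ) : WithBot ℕ∞) + ((e + 1 : ℕ) : WithBot ℕ∞) <
        ((e : ℕ) : WithBot ℕ∞) + ((n : ℕ) : WithBot ℕ∞) :=
      lt_of_lt_of_le h3 (h4.trans (h1.trans (by gcongr)))
    have h6 : n + (e + 1) < e + n := by exact_mod_cast h5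
    omega
  · -- preconnected
    by_contra hnp
    obtain ⟨F₁, F₂, hF₁, hF₂, h₁, h₂, hcov, hint, hn₁, hn₂⟩ :=
      exists_closed_cover_of_not_isPreconnected (PrimeSpectrum.zeroLocus (I : Set A)) Z
        (PrimeSpectrum.isClosed_zeroLocus _) hnp
    obtain ⟨a, b, ha, hb, hrad, hsub, hsa, hsb⟩ :=
      exists_ideals_of_closed_cover A I Z F₁ F₂ hZ hF₁ hF₂ h₁ h₂ hcov hint hn₁ hn₂
    have hab : a ⊔ b ≠ ⊤ :=
      Groth.Agent.H17.BS.sup_ne_top_of_le (IsLocalRing.le_maximalIdeal ha)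
        (IsLocalRing.le_maximalIdeal hb)
    have hlt1 := dim_quotient_lt_of_forall_prime_lt A a (a ⊔ b) hab hsa
    have hlt2 := dim_quotient_lt_of_forall_prime_lt A b (a ⊔ b) hab hsb
    have hk : LocCoh.CdLE A (a ⊓ b) e := Groth.Agent.H17.BS.cdLE_of_radical_eq hrad.symm he
    have key := Groth.Agent.S11669.result A a b ha hb (lt_min hlt1 hlt2) e hk
    obtain ⟨n, hn⟩ := hnat (a ⊔ b) hab hsub
    have hr := dim_quotient_le_topologicalKrullDim A (a ⊔ b) Z hsub
    rw [hn] at hr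
    have hs : ((n + (e + 1) + 1 : ℕ) : WithBot ℕ∞) ≤ LocCoh.subdim (PrimeSpectrum A) := by
      apply add_one_le_subdim A (n + (e + 1))
      intro p hp
      have h3 := hdim p hp
      rw [hn] at h3
      exact_mod_cast h3
    have hcd : ((n + e + 1 : ℕ) : WithBot ℕ∞) ≤ LocCoh.connDim (PrimeSpectrum A) := by
      apply add_one_le_connDim (PrimeSpectrum A) (n + e)
      intro Z' hZ' hnc
      have h3 := hc Z' hZ' hnc
      rw [hn] at h3
      exact_mod_cast h3
    have hub : ringKrullDim (A ⧸ (a ⊔ b)) + ((e : ℕ) : WithBot ℕ∞) + 1 ≤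
        ((n + e + 1 : ℕ) : WithBot ℕ∞) := by
      have h7 : ringKrullDim (A ⧸ (a ⊔ b)) + ((e : ℕ) : WithBot ℕ∞) + 1 ≤
          ((n : ℕ) : WithBot ℕ∞) + ((e : ℕ) : WithBot ℕ∞) + 1 := by gcongr
      refine h7.trans (le_of_eq ?_)
      push_cast
      rfl
    have hmin := key.trans hub
    rcases min_le_iff.1 hmin with h | h
    · have h' : ((n + e + 1 : ℕ) : WithBot ℕ∞) + 1 ≤ ((n + e + 1 : ℕ) : WithBot ℕ∞) :=
        le_trans (by gcongr) h
      have h'' : n + e + 1 + 1 ≤ n + e + 1 := by exact_mod_cast h'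
      omega
    · have h' := hs.trans h
      have h'' : n + (e + 1) + 1 ≤ n + e + 1 := by exact_mod_cast h'
      omega

end Groth.Agent.H17.FC
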